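import Cfsg.Agent.Lib.Helper12.TCG.McLCx66825.Fin0
import Cfsg.Agent.Lib.Helper12.TCG.McLCx66825.Fin1
import Cfsg.Agent.Lib.Helper12.TCG.McLCx66825.Fin2
import Cfsg.Agent.Lib.Helper12.TCG.McLCx66825.Fin3
import Cfsg.Agent.Lib.Helper12.TCG.McLCx66825.Fin4
import Cfsg.Agent.Lib.Helper12.TCG.McLCx66825.Fin5
import Cfsg.Agent.Lib.Helper12.TCG.McLCx66825.Fin6
import Cfsg.Agent.Lib.Helper12.TCG.McLCx66825.Fin7
import Cfsg.Agent.Lib.Helper12.TCG.McLCx66825.Fin8
import Cfsg.Agent.Lib.Helper12.TCG.McLCx66825.Fin9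
import Cfsg.Agent.Lib.Helper12.TCG.McLCx66825.Fin10
import Cfsg.Agent.Lib.Helper12.TCG.McLCx66825.Fin11
import Cfsg.Agent.Lib.Helper12.TCG.McLCx66825.Fin12
import Cfsg.Agent.Lib.Helper12.TCG.McLCx66825.Fin13
import Cfsg.Agent.Lib.Helper12.TCG.McLCx66825.Fin14
import Cfsg.Agent.Lib.Helper12.TCG.McLCx66825.Fin15
import Cfsg.Agent.Lib.Helper12.TCG.McLCx66825.Fin16
import Cfsg.Agent.Lib.Helper12.McLM.Pres5

/-! the final table for McLCx66825 (generated, helper12) -/

set_option autoImplicit false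
set_option maxRecDepth 100000
set_option linter.unusedSimpArgs false
set_option Elab.async false

namespace Cfsg.Agent.Lib.Helper12.TCG.McLCx66825

open Cfsg.Agent.Lib.Helper12.TC Cfsg.Agent.Lib.Helper12.TCG Cfsg.Agent.Lib.Helper12.McLM.Pres5

theorem hdefs_0 : defsPartK F 0 16384 = true := by decide +kernel

theorem hdefs_1 : defsPartK F 16384 16384 = true := by decide +kernel

theorem hdefs_2 : defsPartK F 32768 16384 = true := by decide +kernel

theorem hdefs_3 : defsPartK F 49152 16384 = true := by decide +kernel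

theorem hdefs_4 : defsPartK F 65536 16384 = true := by decide +kernel

theorem hdefs_5 : defsPartK F 81920 16384 = true := by decide +kernel

theorem hdefs_6 : defsPartK F 98304 16384 = true := by decide +kernel

theorem hdefs_7 : defsPartK F 114688 16384 = true := by decide +kernel

theorem hdefs_8 : defsPartK F 131072 469 = true := by decide +kernel

theorem hdefs : defsK F cD = true :=
  defsK_of_OK (defsOK_step hdefs_8 rfl
    (defsOK_step hdefs_7 rfl
    (defsOK_step hdefs_6 rfl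
    (defsOK_step hdefs_5 rfl
    (defsOK_step hdefs_4 rfl
    (defsOK_step hdefs_3 rfl
    (defsOK_step hdefs_2 rfl
    (defsOK_step hdefs_1 rfl
    (defsOK_step hdefs_0 rfl
    (defsOK_start F))))))))))

theorem beq_chain {x A B : ℕ} (h1 : Nat.beq x A = true) (h2 : Nat.beq A B = true) :
    Nat.beq x B = true := by
  rw [Nat.eq_of_beq_eq_true h1]
  exact h2

theorem hlive' : Nat.beq (liveK (fr0 ++ (fr1 ++ (fr2 ++ (fr3 ++ (fr4 ++ (fr5 ++ (fr6 ++ (fr7 ++ (fr8 ++ (fr9 ++ (fr10 ++ (fr11 ++ (fr12 ++ (fr13 ++ (fr14 ++ (fr15 ++ (fr16)))))))))))))))))) (Nat.lor LIVE0 (Nat.lor LIVE1 (Nat.lor LIVE2 (Nat.lor LIVE3 (Nat.lor LIVE4 (Nat.lor LIVE5 (Nat.lor LIVE6 (Nat.lor LIVE7 (Nat.lor LIVE8 (Nat.lor LIVE9 (Nat.lor LIVE10 (Nat.lor LIVE11 (Nat.lor LIVE12 (Nat.lor LIVE13 (Nat.lor LIVE14 (Nat.lor LIVE15 (LIVE16))))))))))))))))) = true :=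
  (liveK_append_beq hlive_0 (liveK_append_beq hlive_1 (liveK_append_beq hlive_2 (liveK_append_beq hlive_3 (liveK_append_beq hlive_4 (liveK_append_beq hlive_5 (liveK_append_beq hlive_6 (liveK_append_beq hlive_7 (liveK_append_beq hlive_8 (liveK_append_beq hlive_9 (liveK_append_beq hlive_10 (liveK_append_beq hlive_11 (liveK_append_beq hlive_12 (liveK_append_beq hlive_13 (liveK_append_beq hlive_14 (liveK_append_beq hlive_15 hlive_16))))))))))))))))

theorem hliveq : Nat.beq (Nat.lor LIVE0 (Nat.lor LIVE1 (Nat.lor LIVE2 (Nat.lor LIVE3 (Nat.lor LIVE4 (Nat.lor LIVE5 (Nat.lor LIVE6 (Nat.lor LIVE7 (Nat.lor LIVE8 (Nat.lor LIVE9 (Nat.lor LIVE10 (Nat.lor LIVE11 (Nat.lor LIVE12 (Nat.lor LIVE13 (Nat.lor LIVE14 (Nat.lor LIVE15 (LIVE16))))))))))))))))) LIVE = true := by decide +kernel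

theorem hlive : Nat.beq (liveK finrecs) LIVE = true := by
  unfold finrecs
  exact beq_chain hlive' hliveq

theorem hlive0 : bitK LIVE 0 = true := by decide +kernel

theorem hfin : finG cIV F cK 5 finrecs = true :=
  finG_of_parts hlive hlive0 (Fn.allListK_append hfin_0 (Fn.allListK_append hfin_1 (Fn.allListK_append hfin_2 (Fn.allListK_append hfin_3 (Fn.allListK_append hfin_4 (Fn.allListK_append hfin_5 (Fn.allListK_append hfin_6 (Fn.allListK_append hfin_7 (Fn.allListK_append hfin_8 (Fn.allListK_append hfin_9 (Fn.allListK_append hfin_10 (Fn.allListK_append hfin_11 (Fn.allListK_append hfin_12 (Fn.allListK_append hfin_13 (Fn.allListK_append hfin_14 (Fn.allListK_append hfin_15 hfin_16))))))))))))))))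

theorem hlen : finrecs.length = cN := by
  simp only [finrecs, List.length_append]
  decide +kernel

theorem hrelc : relCheckK RW cR0 cR baseL rotW sw = true := by
  decide +kernel

theorem hlet : lettersK 5 baseL = true := by decide +kernel

end Cfsg.Agent.Lib.Helper12.TCG.McLCx66825
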