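import Cfsg.Agent.Lib.Helper12.TCG.McLCx66825.Rel0
import Cfsg.Agent.Lib.Helper12.TCG.McLCx66825.Rel1
import Cfsg.Agent.Lib.Helper12.TCG.McLCx66825.Rel2
import Cfsg.Agent.Lib.Helper12.TCG.McLCx66825.Rel3
import Cfsg.Agent.Lib.Helper12.TCG.McLCx66825.Rel4
import Cfsg.Agent.Lib.Helper12.TCG.McLCx66825.Rel5
import Cfsg.Agent.Lib.Helper12.TCG.McLCx66825.Rel6
import Cfsg.Agent.Lib.Helper12.TCG.McLCx66825.Rel7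
import Cfsg.Agent.Lib.Helper12.TCG.McLCx66825.Rel8
import Cfsg.Agent.Lib.Helper12.TCG.McLCx66825.Rel9
import Cfsg.Agent.Lib.Helper12.TCG.McLCx66825.Rel10
import Cfsg.Agent.Lib.Helper12.TCG.McLCx66825.Rel11
import Cfsg.Agent.Lib.Helper12.TCG.McLCx66825.Rel12
import Cfsg.Agent.Lib.Helper12.TCG.McLCx66825.Rel13
import Cfsg.Agent.Lib.Helper12.TCG.McLCx66825.Rel14
import Cfsg.Agent.Lib.Helper12.TCG.McLCx66825.Rel15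
import Cfsg.Agent.Lib.Helper12.TCG.McLCx66825.Tab
import Cfsg.Agent.Lib.Helper12.McLM.Pres5

/-! the permutation representation for McLCx66825 (generated, helper12) -/

set_option autoImplicit false
set_option maxRecDepth 100000
set_option linter.unusedSimpArgs false
set_option Elab.async false

namespace Cfsg.Agent.Lib.Helper12.TCG.McLCx66825

open Cfsg.Agent.Lib.Helper12.TC Cfsg.Agent.Lib.Helper12.TCG Cfsg.Agent.Lib.Helper12.McLM.Pres5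

theorem htN : tN = cN := rfl

theorem hperm0 : permOneG 18364758544493064720 TT 0 tN = true :=
  permOneG_of_OK (permOK_step hperm0_4 rfl
    (permOK_step hperm0_3 rfl
    (permOK_step hperm0_2 rfl
    (permOK_step hperm0_1 rfl
    (permOK_step hperm0_0 rfl
    (permOK_start 18364758544493064720 TT 0 tN))))))

theorem hperm1 : permOneG 18364758544493064720 TT 1 tN = true :=
  permOneG_of_OK (permOK_step hperm1_4 rfl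
    (permOK_step hperm1_3 rfl
    (permOK_step hperm1_2 rfl
    (permOK_step hperm1_1 rfl
    (permOK_step hperm1_0 rfl
    (permOK_start 18364758544493064720 TT 1 tN))))))

theorem hperm2 : permOneG 18364758544493064720 TT 2 tN = true :=
  permOneG_of_OK (permOK_step hperm2_4 rfl
    (permOK_step hperm2_3 rfl
    (permOK_step hperm2_2 rfl
    (permOK_step hperm2_1 rfl
    (permOK_step hperm2_0 rfl
    (permOK_start 18364758544493064720 TT 2 tN))))))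

theorem hperm3 : permOneG 18364758544493064720 TT 3 tN = true :=
  permOneG_of_OK (permOK_step hperm3_4 rfl
    (permOK_step hperm3_3 rfl
    (permOK_step hperm3_2 rfl
    (permOK_step hperm3_1 rfl
    (permOK_step hperm3_0 rfl
    (permOK_start 18364758544493064720 TT 3 tN))))))

theorem hperm4 : permOneG 18364758544493064720 TT 4 tN = true :=
  permOneG_of_OK (permOK_step hperm4_4 rfl
    (permOK_step hperm4_3 rfl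
    (permOK_step hperm4_2 rfl
    (permOK_step hperm4_1 rfl
    (permOK_step hperm4_0 rfl
    (permOK_start 18364758544493064720 TT 4 tN))))))

theorem hperm : permG cIV TT 5 cN = true := by
  refine permG_of_ones (fun x hx => ?_)
  interval_cases x
  · exact hperm0
  · exact hperm1
  · exact hperm2
  · exact hperm3
  · exact hperm4

/-- words as powers -/
def specs : List (List ℕ × ℕ) :=
  [([3, 1, 0, 1], 4),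
   ([0, 3, 0, 1, 3, 1, 0, 3], 2),
   ([0, 2, 0, 3, 2, 3, 0, 2], 2),
   ([3, 0, 2, 0], 4),
   ([0, 2, 3, 0, 2, 0, 3, 2], 2),
   ([0, 3, 2, 0, 3, 0, 2, 3], 2),
   ([2, 3, 2, 0], 4),
   ([0, 3, 0, 2, 3, 2, 0, 3], 2),
   ([1, 2, 3, 1, 2, 1, 3, 2], 2),
   ([2, 3, 2, 1], 4),
   ([2, 0, 3, 0, 2, 1, 3, 2, 0, 1, 0, 2, 3, 1, 0, 3, 0], 1),
   ([3, 0, 2, 1, 0, 1, 2, 0, 3, 2, 1, 0, 1, 2, 1, 0, 1], 1),
   ([3, 0, 2, 3, 2, 0, 3, 0, 1, 2, 3, 2, 1, 0, 2, 3, 2], 1),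
   ([0, 2, 0, 2, 3, 2], 3),
   ([2, 0, 1, 0, 2, 3, 1, 2, 1, 3, 1, 0, 1, 0, 2, 0, 1, 0, 1], 1),
   ([0, 1, 0, 1, 2, 1, 0, 1, 0, 3, 1, 2, 1, 3, 2, 0, 1, 0, 2], 1),
   ([1, 0, 2, 1, 0, 1, 2, 0, 1, 3, 1, 2, 1, 3, 0, 1, 2, 1, 0], 1),
   ([3, 4, 2, 3, 2, 4], 2),
   ([4, 3, 2, 3], 3),
   ([0, 1, 0, 3, 1, 3, 0, 1, 0, 1, 3, 1, 3], 1),
   ([4, 2, 3, 2, 4, 1, 2, 1, 3, 1, 2, 1, 3], 1),
   ([4, 2, 3, 2, 4, 1, 3, 1, 2, 1, 3, 1, 2], 1),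
   ([4, 2, 3, 2, 4, 2, 3, 1, 2, 1, 3, 2, 1], 1),
   ([3, 2, 3, 1, 2, 4, 1, 3, 1, 4, 2, 1, 2], 1),
   ([4, 0, 1, 4, 1, 3, 0, 1, 0, 3, 1, 4, 1, 0, 3], 1),
   ([3, 0, 4, 0, 3, 1, 4, 3, 0, 1, 0, 3, 4, 1, 0], 1),
   ([0, 4, 2, 3, 2, 4, 0, 3, 1, 2, 1, 3, 1, 2, 1], 1),
   ([2, 0, 4, 0], 4),
   ([4, 2, 3, 2, 4, 2, 3, 1, 0, 1, 3, 2, 3, 1, 0, 1, 3], 1),
   ([4, 2, 3, 2, 4, 1, 3, 0, 2, 0, 3, 1, 3, 0, 2, 0, 3], 1),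
   ([0], 2),
   ([1], 2),
   ([2], 2),
   ([3], 2),
   ([4], 2),
   ([], 1)]

theorem hspecs : baseL = specs.map (fun s => wpow s.1 s.2) := by
  decide +kernel

theorem hfix0 : ∀ i < tN, (Fn.applyW TT (([3, 1, 0, 1] : List ℕ), 4).1)^[(([3, 1, 0, 1] : List ℕ), 4).2] i = i :=
  Fn.fix_of_rangeOK (Fn.rangeOK_step hm0_3 rfl
    (Fn.rangeOK_step hm0_2 rfl
    (Fn.rangeOK_step hm0_1 rfl
    (Fn.rangeOK_step hm0_0 rfl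
    (Fn.rangeOK_start TT [3, 1, 0, 1] 4 tN)))))

theorem hfix1 : ∀ i < tN, (Fn.applyW TT (([0, 3, 0, 1, 3, 1, 0, 3] : List ℕ), 2).1)^[(([0, 3, 0, 1, 3, 1, 0, 3] : List ℕ), 2).2] i = i :=
  Fn.fix_of_rangeOK (Fn.rangeOK_step hm1_6 rfl
    (Fn.rangeOK_step hm1_5 rfl
    (Fn.rangeOK_step hm1_4 rfl
    (Fn.rangeOK_step hm1_3 rfl
    (Fn.rangeOK_step hm1_2 rfl
    (Fn.rangeOK_step hm1_1 rfl
    (Fn.rangeOK_step hm1_0 rfl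
    (Fn.rangeOK_start TT [0, 3, 0, 1, 3, 1, 0, 3] 2 tN))))))))

theorem hfix2 : ∀ i < tN, (Fn.applyW TT (([0, 2, 0, 3, 2, 3, 0, 2] : List ℕ), 2).1)^[(([0, 2, 0, 3, 2, 3, 0, 2] : List ℕ), 2).2] i = i :=
  Fn.fix_of_rangeOK (Fn.rangeOK_step hm2_6 rfl
    (Fn.rangeOK_step hm2_5 rfl
    (Fn.rangeOK_step hm2_4 rfl
    (Fn.rangeOK_step hm2_3 rfl
    (Fn.rangeOK_step hm2_2 rfl
    (Fn.rangeOK_step hm2_1 rfl
    (Fn.rangeOK_step hm2_0 rfl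
    (Fn.rangeOK_start TT [0, 2, 0, 3, 2, 3, 0, 2] 2 tN))))))))

theorem hfix3 : ∀ i < tN, (Fn.applyW TT (([3, 0, 2, 0] : List ℕ), 4).1)^[(([3, 0, 2, 0] : List ℕ), 4).2] i = i :=
  Fn.fix_of_rangeOK (Fn.rangeOK_step hm3_3 rfl
    (Fn.rangeOK_step hm3_2 rfl
    (Fn.rangeOK_step hm3_1 rfl
    (Fn.rangeOK_step hm3_0 rfl
    (Fn.rangeOK_start TT [3, 0, 2, 0] 4 tN)))))

theorem hfix4 : ∀ i < tN, (Fn.applyW TT (([0, 2, 3, 0, 2, 0, 3, 2] : List ℕ), 2).1)^[(([0, 2, 3, 0, 2, 0, 3, 2] : List ℕ), 2).2] i = i :=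
  Fn.fix_of_rangeOK (Fn.rangeOK_step hm4_6 rfl
    (Fn.rangeOK_step hm4_5 rfl
    (Fn.rangeOK_step hm4_4 rfl
    (Fn.rangeOK_step hm4_3 rfl
    (Fn.rangeOK_step hm4_2 rfl
    (Fn.rangeOK_step hm4_1 rfl
    (Fn.rangeOK_step hm4_0 rfl
    (Fn.rangeOK_start TT [0, 2, 3, 0, 2, 0, 3, 2] 2 tN))))))))

theorem hfix5 : ∀ i < tN, (Fn.applyW TT (([0, 3, 2, 0, 3, 0, 2, 3] : List ℕ), 2).1)^[(([0, 3, 2, 0, 3, 0, 2, 3] : List ℕ), 2).2] i = i :=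
  Fn.fix_of_rangeOK (Fn.rangeOK_step hm5_6 rfl
    (Fn.rangeOK_step hm5_5 rfl
    (Fn.rangeOK_step hm5_4 rfl
    (Fn.rangeOK_step hm5_3 rfl
    (Fn.rangeOK_step hm5_2 rfl
    (Fn.rangeOK_step hm5_1 rfl
    (Fn.rangeOK_step hm5_0 rfl
    (Fn.rangeOK_start TT [0, 3, 2, 0, 3, 0, 2, 3] 2 tN))))))))

theorem hfix6 : ∀ i < tN, (Fn.applyW TT (([2, 3, 2, 0] : List ℕ), 4).1)^[(([2, 3, 2, 0] : List ℕ), 4).2] i = i :=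
  Fn.fix_of_rangeOK (Fn.rangeOK_step hm6_3 rfl
    (Fn.rangeOK_step hm6_2 rfl
    (Fn.rangeOK_step hm6_1 rfl
    (Fn.rangeOK_step hm6_0 rfl
    (Fn.rangeOK_start TT [2, 3, 2, 0] 4 tN)))))

theorem hfix7 : ∀ i < tN, (Fn.applyW TT (([0, 3, 0, 2, 3, 2, 0, 3] : List ℕ), 2).1)^[(([0, 3, 0, 2, 3, 2, 0, 3] : List ℕ), 2).2] i = i :=
  Fn.fix_of_rangeOK (Fn.rangeOK_step hm7_6 rfl
    (Fn.rangeOK_step hm7_5 rfl
    (Fn.rangeOK_step hm7_4 rfl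
    (Fn.rangeOK_step hm7_3 rfl
    (Fn.rangeOK_step hm7_2 rfl
    (Fn.rangeOK_step hm7_1 rfl
    (Fn.rangeOK_step hm7_0 rfl
    (Fn.rangeOK_start TT [0, 3, 0, 2, 3, 2, 0, 3] 2 tN))))))))

theorem hfix8 : ∀ i < tN, (Fn.applyW TT (([1, 2, 3, 1, 2, 1, 3, 2] : List ℕ), 2).1)^[(([1, 2, 3, 1, 2, 1, 3, 2] : List ℕ), 2).2] i = i :=
  Fn.fix_of_rangeOK (Fn.rangeOK_step hm8_6 rfl
    (Fn.rangeOK_step hm8_5 rfl
    (Fn.rangeOK_step hm8_4 rfl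
    (Fn.rangeOK_step hm8_3 rfl
    (Fn.rangeOK_step hm8_2 rfl
    (Fn.rangeOK_step hm8_1 rfl
    (Fn.rangeOK_step hm8_0 rfl
    (Fn.rangeOK_start TT [1, 2, 3, 1, 2, 1, 3, 2] 2 tN))))))))

theorem hfix9 : ∀ i < tN, (Fn.applyW TT (([2, 3, 2, 1] : List ℕ), 4).1)^[(([2, 3, 2, 1] : List ℕ), 4).2] i = i :=
  Fn.fix_of_rangeOK (Fn.rangeOK_step hm9_3 rfl
    (Fn.rangeOK_step hm9_2 rfl
    (Fn.rangeOK_step hm9_1 rfl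
    (Fn.rangeOK_step hm9_0 rfl
    (Fn.rangeOK_start TT [2, 3, 2, 1] 4 tN)))))

theorem hfix10 : ∀ i < tN, (Fn.applyW TT (([2, 0, 3, 0, 2, 1, 3, 2, 0, 1, 0, 2, 3, 1, 0, 3, 0] : List ℕ), 1).1)^[(([2, 0, 3, 0, 2, 1, 3, 2, 0, 1, 0, 2, 3, 1, 0, 3, 0] : List ℕ), 1).2] i = i :=
  Fn.fix_of_rangeOK (Fn.rangeOK_step hm10_14 rfl
    (Fn.rangeOK_step hm10_13 rfl
    (Fn.rangeOK_step hm10_12 rfl
    (Fn.rangeOK_step hm10_11 rfl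
    (Fn.rangeOK_step hm10_10 rfl
    (Fn.rangeOK_step hm10_9 rfl
    (Fn.rangeOK_step hm10_8 rfl
    (Fn.rangeOK_step hm10_7 rfl
    (Fn.rangeOK_step hm10_6 rfl
    (Fn.rangeOK_step hm10_5 rfl
    (Fn.rangeOK_step hm10_4 rfl
    (Fn.rangeOK_step hm10_3 rfl
    (Fn.rangeOK_step hm10_2 rfl
    (Fn.rangeOK_step hm10_1 rfl
    (Fn.rangeOK_step hm10_0 rfl
    (Fn.rangeOK_start TT [2, 0, 3, 0, 2, 1, 3, 2, 0, 1, 0, 2, 3, 1, 0, 3, 0] 1 tN))))))))))))))))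

theorem hfix11 : ∀ i < tN, (Fn.applyW TT (([3, 0, 2, 1, 0, 1, 2, 0, 3, 2, 1, 0, 1, 2, 1, 0, 1] : List ℕ), 1).1)^[(([3, 0, 2, 1, 0, 1, 2, 0, 3, 2, 1, 0, 1, 2, 1, 0, 1] : List ℕ), 1).2] i = i :=
  Fn.fix_of_rangeOK (Fn.rangeOK_step hm11_14 rfl
    (Fn.rangeOK_step hm11_13 rfl
    (Fn.rangeOK_step hm11_12 rfl
    (Fn.rangeOK_step hm11_11 rfl
    (Fn.rangeOK_step hm11_10 rfl
    (Fn.rangeOK_step hm11_9 rfl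
    (Fn.rangeOK_step hm11_8 rfl
    (Fn.rangeOK_step hm11_7 rfl
    (Fn.rangeOK_step hm11_6 rfl
    (Fn.rangeOK_step hm11_5 rfl
    (Fn.rangeOK_step hm11_4 rfl
    (Fn.rangeOK_step hm11_3 rfl
    (Fn.rangeOK_step hm11_2 rfl
    (Fn.rangeOK_step hm11_1 rfl
    (Fn.rangeOK_step hm11_0 rfl
    (Fn.rangeOK_start TT [3, 0, 2, 1, 0, 1, 2, 0, 3, 2, 1, 0, 1, 2, 1, 0, 1] 1 tN))))))))))))))))

theorem hfix12 : ∀ i < tN, (Fn.applyW TT (([3, 0, 2, 3, 2, 0, 3, 0, 1, 2, 3, 2, 1, 0, 2, 3, 2] : List ℕ), 1).1)^[(([3, 0, 2, 3, 2, 0, 3, 0, 1, 2, 3, 2, 1, 0, 2, 3, 2] : List ℕ), 1).2] i = i :=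
  Fn.fix_of_rangeOK (Fn.rangeOK_step hm12_14 rfl
    (Fn.rangeOK_step hm12_13 rfl
    (Fn.rangeOK_step hm12_12 rfl
    (Fn.rangeOK_step hm12_11 rfl
    (Fn.rangeOK_step hm12_10 rfl
    (Fn.rangeOK_step hm12_9 rfl
    (Fn.rangeOK_step hm12_8 rfl
    (Fn.rangeOK_step hm12_7 rfl
    (Fn.rangeOK_step hm12_6 rfl
    (Fn.rangeOK_step hm12_5 rfl
    (Fn.rangeOK_step hm12_4 rfl
    (Fn.rangeOK_step hm12_3 rfl
    (Fn.rangeOK_step hm12_2 rfl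
    (Fn.rangeOK_step hm12_1 rfl
    (Fn.rangeOK_step hm12_0 rfl
    (Fn.rangeOK_start TT [3, 0, 2, 3, 2, 0, 3, 0, 1, 2, 3, 2, 1, 0, 2, 3, 2] 1 tN))))))))))))))))

theorem hfix13 : ∀ i < tN, (Fn.applyW TT (([0, 2, 0, 2, 3, 2] : List ℕ), 3).1)^[(([0, 2, 0, 2, 3, 2] : List ℕ), 3).2] i = i :=
  Fn.fix_of_rangeOK (Fn.rangeOK_step hm13_5 rfl
    (Fn.rangeOK_step hm13_4 rfl
    (Fn.rangeOK_step hm13_3 rfl
    (Fn.rangeOK_step hm13_2 rfl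
    (Fn.rangeOK_step hm13_1 rfl
    (Fn.rangeOK_step hm13_0 rfl
    (Fn.rangeOK_start TT [0, 2, 0, 2, 3, 2] 3 tN)))))))

theorem hfix14 : ∀ i < tN, (Fn.applyW TT (([2, 0, 1, 0, 2, 3, 1, 2, 1, 3, 1, 0, 1, 0, 2, 0, 1, 0, 1] : List ℕ), 1).1)^[(([2, 0, 1, 0, 2, 3, 1, 2, 1, 3, 1, 0, 1, 0, 2, 0, 1, 0, 1] : List ℕ), 1).2] i = i :=
  Fn.fix_of_rangeOK (Fn.rangeOK_step hm14_15 rfl
    (Fn.rangeOK_step hm14_14 rfl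
    (Fn.rangeOK_step hm14_13 rfl
    (Fn.rangeOK_step hm14_12 rfl
    (Fn.rangeOK_step hm14_11 rfl
    (Fn.rangeOK_step hm14_10 rfl
    (Fn.rangeOK_step hm14_9 rfl
    (Fn.rangeOK_step hm14_8 rfl
    (Fn.rangeOK_step hm14_7 rfl
    (Fn.rangeOK_step hm14_6 rfl
    (Fn.rangeOK_step hm14_5 rfl
    (Fn.rangeOK_step hm14_4 rfl
    (Fn.rangeOK_step hm14_3 rfl
    (Fn.rangeOK_step hm14_2 rfl
    (Fn.rangeOK_step hm14_1 rfl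
    (Fn.rangeOK_step hm14_0 rfl
    (Fn.rangeOK_start TT [2, 0, 1, 0, 2, 3, 1, 2, 1, 3, 1, 0, 1, 0, 2, 0, 1, 0, 1] 1 tN)))))))))))))))))

theorem hfix15 : ∀ i < tN, (Fn.applyW TT (([0, 1, 0, 1, 2, 1, 0, 1, 0, 3, 1, 2, 1, 3, 2, 0, 1, 0, 2] : List ℕ), 1).1)^[(([0, 1, 0, 1, 2, 1, 0, 1, 0, 3, 1, 2, 1, 3, 2, 0, 1, 0, 2] : List ℕ), 1).2] i = i :=
  Fn.fix_of_rangeOK (Fn.rangeOK_step hm15_15 rfl
    (Fn.rangeOK_step hm15_14 rfl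
    (Fn.rangeOK_step hm15_13 rfl
    (Fn.rangeOK_step hm15_12 rfl
    (Fn.rangeOK_step hm15_11 rfl
    (Fn.rangeOK_step hm15_10 rfl
    (Fn.rangeOK_step hm15_9 rfl
    (Fn.rangeOK_step hm15_8 rfl
    (Fn.rangeOK_step hm15_7 rfl
    (Fn.rangeOK_step hm15_6 rfl
    (Fn.rangeOK_step hm15_5 rfl
    (Fn.rangeOK_step hm15_4 rfl
    (Fn.rangeOK_step hm15_3 rfl
    (Fn.rangeOK_step hm15_2 rfl
    (Fn.rangeOK_step hm15_1 rfl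
    (Fn.rangeOK_step hm15_0 rfl
    (Fn.rangeOK_start TT [0, 1, 0, 1, 2, 1, 0, 1, 0, 3, 1, 2, 1, 3, 2, 0, 1, 0, 2] 1 tN)))))))))))))))))

theorem hfix16 : ∀ i < tN, (Fn.applyW TT (([1, 0, 2, 1, 0, 1, 2, 0, 1, 3, 1, 2, 1, 3, 0, 1, 2, 1, 0] : List ℕ), 1).1)^[(([1, 0, 2, 1, 0, 1, 2, 0, 1, 3, 1, 2, 1, 3, 0, 1, 2, 1, 0] : List ℕ), 1).2] i = i :=
  Fn.fix_of_rangeOK (Fn.rangeOK_step hm16_15 rfl
    (Fn.rangeOK_step hm16_14 rfl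
    (Fn.rangeOK_step hm16_13 rfl
    (Fn.rangeOK_step hm16_12 rfl
    (Fn.rangeOK_step hm16_11 rfl
    (Fn.rangeOK_step hm16_10 rfl
    (Fn.rangeOK_step hm16_9 rfl
    (Fn.rangeOK_step hm16_8 rfl
    (Fn.rangeOK_step hm16_7 rfl
    (Fn.rangeOK_step hm16_6 rfl
    (Fn.rangeOK_step hm16_5 rfl
    (Fn.rangeOK_step hm16_4 rfl
    (Fn.rangeOK_step hm16_3 rfl
    (Fn.rangeOK_step hm16_2 rfl
    (Fn.rangeOK_step hm16_1 rfl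
    (Fn.rangeOK_step hm16_0 rfl
    (Fn.rangeOK_start TT [1, 0, 2, 1, 0, 1, 2, 0, 1, 3, 1, 2, 1, 3, 0, 1, 2, 1, 0] 1 tN)))))))))))))))))

theorem hfix17 : ∀ i < tN, (Fn.applyW TT (([3, 4, 2, 3, 2, 4] : List ℕ), 2).1)^[(([3, 4, 2, 3, 2, 4] : List ℕ), 2).2] i = i :=
  Fn.fix_of_rangeOK (Fn.rangeOK_step hm17_5 rfl
    (Fn.rangeOK_step hm17_4 rfl
    (Fn.rangeOK_step hm17_3 rfl
    (Fn.rangeOK_step hm17_2 rfl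
    (Fn.rangeOK_step hm17_1 rfl
    (Fn.rangeOK_step hm17_0 rfl
    (Fn.rangeOK_start TT [3, 4, 2, 3, 2, 4] 2 tN)))))))

theorem hfix18 : ∀ i < tN, (Fn.applyW TT (([4, 3, 2, 3] : List ℕ), 3).1)^[(([4, 3, 2, 3] : List ℕ), 3).2] i = i :=
  Fn.fix_of_rangeOK (Fn.rangeOK_step hm18_3 rfl
    (Fn.rangeOK_step hm18_2 rfl
    (Fn.rangeOK_step hm18_1 rfl
    (Fn.rangeOK_step hm18_0 rfl
    (Fn.rangeOK_start TT [4, 3, 2, 3] 3 tN)))))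

theorem hfix19 : ∀ i < tN, (Fn.applyW TT (([0, 1, 0, 3, 1, 3, 0, 1, 0, 1, 3, 1, 3] : List ℕ), 1).1)^[(([0, 1, 0, 3, 1, 3, 0, 1, 0, 1, 3, 1, 3] : List ℕ), 1).2] i = i :=
  Fn.fix_of_rangeOK (Fn.rangeOK_step hm19_10 rfl
    (Fn.rangeOK_step hm19_9 rfl
    (Fn.rangeOK_step hm19_8 rfl
    (Fn.rangeOK_step hm19_7 rfl
    (Fn.rangeOK_step hm19_6 rfl
    (Fn.rangeOK_step hm19_5 rfl
    (Fn.rangeOK_step hm19_4 rfl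
    (Fn.rangeOK_step hm19_3 rfl
    (Fn.rangeOK_step hm19_2 rfl
    (Fn.rangeOK_step hm19_1 rfl
    (Fn.rangeOK_step hm19_0 rfl
    (Fn.rangeOK_start TT [0, 1, 0, 3, 1, 3, 0, 1, 0, 1, 3, 1, 3] 1 tN))))))))))))

theorem hfix20 : ∀ i < tN, (Fn.applyW TT (([4, 2, 3, 2, 4, 1, 2, 1, 3, 1, 2, 1, 3] : List ℕ), 1).1)^[(([4, 2, 3, 2, 4, 1, 2, 1, 3, 1, 2, 1, 3] : List ℕ), 1).2] i = i :=
  Fn.fix_of_rangeOK (Fn.rangeOK_step hm20_10 rfl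
    (Fn.rangeOK_step hm20_9 rfl
    (Fn.rangeOK_step hm20_8 rfl
    (Fn.rangeOK_step hm20_7 rfl
    (Fn.rangeOK_step hm20_6 rfl
    (Fn.rangeOK_step hm20_5 rfl
    (Fn.rangeOK_step hm20_4 rfl
    (Fn.rangeOK_step hm20_3 rfl
    (Fn.rangeOK_step hm20_2 rfl
    (Fn.rangeOK_step hm20_1 rfl
    (Fn.rangeOK_step hm20_0 rfl
    (Fn.rangeOK_start TT [4, 2, 3, 2, 4, 1, 2, 1, 3, 1, 2, 1, 3] 1 tN))))))))))))

theorem hfix21 : ∀ i < tN, (Fn.applyW TT (([4, 2, 3, 2, 4, 1, 3, 1, 2, 1, 3, 1, 2] : List ℕ), 1).1)^[(([4, 2, 3, 2, 4, 1, 3, 1, 2, 1, 3, 1, 2] : List ℕ), 1).2] i = i :=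
  Fn.fix_of_rangeOK (Fn.rangeOK_step hm21_10 rfl
    (Fn.rangeOK_step hm21_9 rfl
    (Fn.rangeOK_step hm21_8 rfl
    (Fn.rangeOK_step hm21_7 rfl
    (Fn.rangeOK_step hm21_6 rfl
    (Fn.rangeOK_step hm21_5 rfl
    (Fn.rangeOK_step hm21_4 rfl
    (Fn.rangeOK_step hm21_3 rfl
    (Fn.rangeOK_step hm21_2 rfl
    (Fn.rangeOK_step hm21_1 rfl
    (Fn.rangeOK_step hm21_0 rfl
    (Fn.rangeOK_start TT [4, 2, 3, 2, 4, 1, 3, 1, 2, 1, 3, 1, 2] 1 tN))))))))))))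

theorem hfix22 : ∀ i < tN, (Fn.applyW TT (([4, 2, 3, 2, 4, 2, 3, 1, 2, 1, 3, 2, 1] : List ℕ), 1).1)^[(([4, 2, 3, 2, 4, 2, 3, 1, 2, 1, 3, 2, 1] : List ℕ), 1).2] i = i :=
  Fn.fix_of_rangeOK (Fn.rangeOK_step hm22_10 rfl
    (Fn.rangeOK_step hm22_9 rfl
    (Fn.rangeOK_step hm22_8 rfl
    (Fn.rangeOK_step hm22_7 rfl
    (Fn.rangeOK_step hm22_6 rfl
    (Fn.rangeOK_step hm22_5 rfl
    (Fn.rangeOK_step hm22_4 rfl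
    (Fn.rangeOK_step hm22_3 rfl
    (Fn.rangeOK_step hm22_2 rfl
    (Fn.rangeOK_step hm22_1 rfl
    (Fn.rangeOK_step hm22_0 rfl
    (Fn.rangeOK_start TT [4, 2, 3, 2, 4, 2, 3, 1, 2, 1, 3, 2, 1] 1 tN))))))))))))

theorem hfix23 : ∀ i < tN, (Fn.applyW TT (([3, 2, 3, 1, 2, 4, 1, 3, 1, 4, 2, 1, 2] : List ℕ), 1).1)^[(([3, 2, 3, 1, 2, 4, 1, 3, 1, 4, 2, 1, 2] : List ℕ), 1).2] i = i :=
  Fn.fix_of_rangeOK (Fn.rangeOK_step hm23_10 rfl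
    (Fn.rangeOK_step hm23_9 rfl
    (Fn.rangeOK_step hm23_8 rfl
    (Fn.rangeOK_step hm23_7 rfl
    (Fn.rangeOK_step hm23_6 rfl
    (Fn.rangeOK_step hm23_5 rfl
    (Fn.rangeOK_step hm23_4 rfl
    (Fn.rangeOK_step hm23_3 rfl
    (Fn.rangeOK_step hm23_2 rfl
    (Fn.rangeOK_step hm23_1 rfl
    (Fn.rangeOK_step hm23_0 rfl
    (Fn.rangeOK_start TT [3, 2, 3, 1, 2, 4, 1, 3, 1, 4, 2, 1, 2] 1 tN))))))))))))

theorem hfix24 : ∀ i < tN, (Fn.applyW TT (([4, 0, 1, 4, 1, 3, 0, 1, 0, 3, 1, 4, 1, 0, 3] : List ℕ), 1).1)^[(([4, 0, 1, 4, 1, 3, 0, 1, 0, 3, 1, 4, 1, 0, 3] : List ℕ), 1).2] i = i :=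
  Fn.fix_of_rangeOK (Fn.rangeOK_step hm24_12 rfl
    (Fn.rangeOK_step hm24_11 rfl
    (Fn.rangeOK_step hm24_10 rfl
    (Fn.rangeOK_step hm24_9 rfl
    (Fn.rangeOK_step hm24_8 rfl
    (Fn.rangeOK_step hm24_7 rfl
    (Fn.rangeOK_step hm24_6 rfl
    (Fn.rangeOK_step hm24_5 rfl
    (Fn.rangeOK_step hm24_4 rfl
    (Fn.rangeOK_step hm24_3 rfl
    (Fn.rangeOK_step hm24_2 rfl
    (Fn.rangeOK_step hm24_1 rfl
    (Fn.rangeOK_step hm24_0 rfl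
    (Fn.rangeOK_start TT [4, 0, 1, 4, 1, 3, 0, 1, 0, 3, 1, 4, 1, 0, 3] 1 tN))))))))))))))

theorem hfix25 : ∀ i < tN, (Fn.applyW TT (([3, 0, 4, 0, 3, 1, 4, 3, 0, 1, 0, 3, 4, 1, 0] : List ℕ), 1).1)^[(([3, 0, 4, 0, 3, 1, 4, 3, 0, 1, 0, 3, 4, 1, 0] : List ℕ), 1).2] i = i :=
  Fn.fix_of_rangeOK (Fn.rangeOK_step hm25_12 rfl
    (Fn.rangeOK_step hm25_11 rfl
    (Fn.rangeOK_step hm25_10 rfl
    (Fn.rangeOK_step hm25_9 rfl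
    (Fn.rangeOK_step hm25_8 rfl
    (Fn.rangeOK_step hm25_7 rfl
    (Fn.rangeOK_step hm25_6 rfl
    (Fn.rangeOK_step hm25_5 rfl
    (Fn.rangeOK_step hm25_4 rfl
    (Fn.rangeOK_step hm25_3 rfl
    (Fn.rangeOK_step hm25_2 rfl
    (Fn.rangeOK_step hm25_1 rfl
    (Fn.rangeOK_step hm25_0 rfl
    (Fn.rangeOK_start TT [3, 0, 4, 0, 3, 1, 4, 3, 0, 1, 0, 3, 4, 1, 0] 1 tN))))))))))))))

theorem hfix26 : ∀ i < tN, (Fn.applyW TT (([0, 4, 2, 3, 2, 4, 0, 3, 1, 2, 1, 3, 1, 2, 1] : List ℕ), 1).1)^[(([0, 4, 2, 3, 2, 4, 0, 3, 1, 2, 1, 3, 1, 2, 1] : List ℕ), 1).2] i = i :=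
  Fn.fix_of_rangeOK (Fn.rangeOK_step hm26_12 rfl
    (Fn.rangeOK_step hm26_11 rfl
    (Fn.rangeOK_step hm26_10 rfl
    (Fn.rangeOK_step hm26_9 rfl
    (Fn.rangeOK_step hm26_8 rfl
    (Fn.rangeOK_step hm26_7 rfl
    (Fn.rangeOK_step hm26_6 rfl
    (Fn.rangeOK_step hm26_5 rfl
    (Fn.rangeOK_step hm26_4 rfl
    (Fn.rangeOK_step hm26_3 rfl
    (Fn.rangeOK_step hm26_2 rfl
    (Fn.rangeOK_step hm26_1 rfl
    (Fn.rangeOK_step hm26_0 rfl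
    (Fn.rangeOK_start TT [0, 4, 2, 3, 2, 4, 0, 3, 1, 2, 1, 3, 1, 2, 1] 1 tN))))))))))))))

theorem hfix27 : ∀ i < tN, (Fn.applyW TT (([2, 0, 4, 0] : List ℕ), 4).1)^[(([2, 0, 4, 0] : List ℕ), 4).2] i = i :=
  Fn.fix_of_rangeOK (Fn.rangeOK_step hm27_3 rfl
    (Fn.rangeOK_step hm27_2 rfl
    (Fn.rangeOK_step hm27_1 rfl
    (Fn.rangeOK_step hm27_0 rfl
    (Fn.rangeOK_start TT [2, 0, 4, 0] 4 tN)))))

theorem hfix28 : ∀ i < tN, (Fn.applyW TT (([4, 2, 3, 2, 4, 2, 3, 1, 0, 1, 3, 2, 3, 1, 0, 1, 3] : List ℕ), 1).1)^[(([4, 2, 3, 2, 4, 2, 3, 1, 0, 1, 3, 2, 3, 1, 0, 1, 3] : List ℕ), 1).2] i = i :=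
  Fn.fix_of_rangeOK (Fn.rangeOK_step hm28_14 rfl
    (Fn.rangeOK_step hm28_13 rfl
    (Fn.rangeOK_step hm28_12 rfl
    (Fn.rangeOK_step hm28_11 rfl
    (Fn.rangeOK_step hm28_10 rfl
    (Fn.rangeOK_step hm28_9 rfl
    (Fn.rangeOK_step hm28_8 rfl
    (Fn.rangeOK_step hm28_7 rfl
    (Fn.rangeOK_step hm28_6 rfl
    (Fn.rangeOK_step hm28_5 rfl
    (Fn.rangeOK_step hm28_4 rfl
    (Fn.rangeOK_step hm28_3 rfl
    (Fn.rangeOK_step hm28_2 rfl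
    (Fn.rangeOK_step hm28_1 rfl
    (Fn.rangeOK_step hm28_0 rfl
    (Fn.rangeOK_start TT [4, 2, 3, 2, 4, 2, 3, 1, 0, 1, 3, 2, 3, 1, 0, 1, 3] 1 tN))))))))))))))))

theorem hfix29 : ∀ i < tN, (Fn.applyW TT (([4, 2, 3, 2, 4, 1, 3, 0, 2, 0, 3, 1, 3, 0, 2, 0, 3] : List ℕ), 1).1)^[(([4, 2, 3, 2, 4, 1, 3, 0, 2, 0, 3, 1, 3, 0, 2, 0, 3] : List ℕ), 1).2] i = i :=
  Fn.fix_of_rangeOK (Fn.rangeOK_step hm29_14 rfl
    (Fn.rangeOK_step hm29_13 rfl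
    (Fn.rangeOK_step hm29_12 rfl
    (Fn.rangeOK_step hm29_11 rfl
    (Fn.rangeOK_step hm29_10 rfl
    (Fn.rangeOK_step hm29_9 rfl
    (Fn.rangeOK_step hm29_8 rfl
    (Fn.rangeOK_step hm29_7 rfl
    (Fn.rangeOK_step hm29_6 rfl
    (Fn.rangeOK_step hm29_5 rfl
    (Fn.rangeOK_step hm29_4 rfl
    (Fn.rangeOK_step hm29_3 rfl
    (Fn.rangeOK_step hm29_2 rfl
    (Fn.rangeOK_step hm29_1 rfl
    (Fn.rangeOK_step hm29_0 rfl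
    (Fn.rangeOK_start TT [4, 2, 3, 2, 4, 1, 3, 0, 2, 0, 3, 1, 3, 0, 2, 0, 3] 1 tN))))))))))))))))

theorem hfixall : Fn.FixAll TT tN specs :=
  Fn.fixAll_cons hfix0
    (Fn.fixAll_cons hfix1
    (Fn.fixAll_cons hfix2
    (Fn.fixAll_cons hfix3
    (Fn.fixAll_cons hfix4
    (Fn.fixAll_cons hfix5
    (Fn.fixAll_cons hfix6
    (Fn.fixAll_cons hfix7
    (Fn.fixAll_cons hfix8
    (Fn.fixAll_cons hfix9
    (Fn.fixAll_cons hfix10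
    (Fn.fixAll_cons hfix11
    (Fn.fixAll_cons hfix12
    (Fn.fixAll_cons hfix13
    (Fn.fixAll_cons hfix14
    (Fn.fixAll_cons hfix15
    (Fn.fixAll_cons hfix16
    (Fn.fixAll_cons hfix17
    (Fn.fixAll_cons hfix18
    (Fn.fixAll_cons hfix19
    (Fn.fixAll_cons hfix20
    (Fn.fixAll_cons hfix21
    (Fn.fixAll_cons hfix22
    (Fn.fixAll_cons hfix23
    (Fn.fixAll_cons hfix24
    (Fn.fixAll_cons hfix25
    (Fn.fixAll_cons hfix26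
    (Fn.fixAll_cons hfix27
    (Fn.fixAll_cons hfix28
    (Fn.fixAll_cons hfix29
    (Fn.fixAll_cons (Fn.fix_of_marksK hm30)
    (Fn.fixAll_cons (Fn.fix_of_marksK hm31)
    (Fn.fixAll_cons (Fn.fix_of_marksK hm32)
    (Fn.fixAll_cons (Fn.fix_of_marksK hm33)
    (Fn.fixAll_cons (Fn.fix_of_marksK hm34)
    (Fn.fixAll_cons (Fn.fix_of_marksK hm35)
    (Fn.fixAll_nil TT tN))))))))))))))))))))))))))))))))))))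

theorem hrels : Fn.relsK TT cN baseL = true := by
  rw [hspecs]
  exact Fn.relsK_of_fixAll hfixall

theorem hsub : Fn.subK TT 5 sw = true := by decide +kernel

theorem htrans : Fn.transK TT 5 cN sw = true := by decide +kernel

end Cfsg.Agent.Lib.Helper12.TCG.McLCx66825
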